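import Mathlib
import Cfsg.Prelude.Def_Classical
import Cfsg.Agent.Helper28.Spin4
import Cfsg.Agent.Helper28.FieldM5
import Cfsg.Agent.S2614

set_option autoImplicit false
set_option linter.unusedSectionVars false

/-! # S2647: definitions.  The monomial model of `Ω₇(q)`, `q ≡ ±3 (mod 8)`:
the diagonal form `-Σ x_j²` on `J → F`, `|J| = 7`, the sign-diagonal matrices `dg ε`, the permutation
matrices `pm π`, the groups `E0 = 2^6`, `S0 = 2^6 : D8` and `H0 = 2^6 : A7`. -/

namespace Cfsg.Agent.S2647P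

open Matrix Cfsg.Agent.Helper28.IsoTransport

noncomputable section

/-- the index type of `quadFormOdd 3` -/
abbrev J : Type := Unit ⊕ (Fin 3 ⊕ Fin 3)

section defs

variable (F : Type*) [Field F]

/-- the diagonal quadratic form `-Σ x_j²` -/
def Qd : QuadraticForm F (J → F) :=
  QuadraticMap.weightedSumSquares F (fun _ : J => (-1 : F))

theorem Qd_apply (x : J → F) : Qd F x = -∑ j, x j * x j := by
  simp [Qd, QuadraticMap.weightedSumSquares_apply, Finset.sum_neg_distrib]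

/-- the isometry group of `Qd` -/
abbrev Od : Type _ := ↥(Cfsg.isometryGroup F ⇑(Qd F))

/-- the commutator subgroup `Ω(Qd)`, as a subgroup of `Od` -/
abbrev Omd : Subgroup (Od F) := Cfsg.Omega F ⇑(Qd F)

/-- the sign of a unit of `ℤ` in `F` -/
def sg (u : ℤˣ) : F := ((u : ℤ) : F)

theorem sg_mul (u v : ℤˣ) : sg F (u * v) = sg F u * sg F v := by
  simp [sg]

theorem sg_one : sg F 1 = 1 := by simp [sg]

theorem sg_neg_one : sg F (-1) = -1 := by simp [sg]

theorem sg_mul_self (u : ℤˣ) : sg F u * sg F u = 1 := by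
  rw [← sg_mul, Int.units_mul_self, sg_one]

/-- the sign-diagonal matrices, as a monoid homomorphism into matrices -/
def dgM : (J → ℤˣ) →* Matrix J J F where
  toFun ε := Matrix.diagonal (fun j => sg F (ε j))
  map_one' := by
    simp [sg_one]
  map_mul' ε ε' := by
    rw [Matrix.diagonal_mul_diagonal]
    congr 1
    funext j
    simp [sg_mul]

theorem dgM_apply (ε : J → ℤˣ) : dgM F ε = Matrix.diagonal (fun j => sg F (ε j)) := rfl

theorem dgM_mulVec (ε : J → ℤˣ) (x : J → F) : dgM F ε *ᵥ x = fun j => sg F (ε j) * x j := by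
  funext j
  rw [dgM_apply, Matrix.mulVec_diagonal]

/-- the sign-diagonal matrices, in `GL` -/
def dgGL : (J → ℤˣ) →* GL J F := (dgM F).toHomUnits

theorem dgGL_val (ε : J → ℤˣ) : ((dgGL F ε : GL J F) : Matrix J J F) = dgM F ε := rfl

theorem dgGL_mem (ε : J → ℤˣ) : dgGL F ε ∈ Cfsg.isometryGroup F ⇑(Qd F) := by
  rw [mem_isometryGroup_iff]
  intro x
  rw [dgGL_val, dgM_mulVec, Qd_apply, Qd_apply]
  congr 1
  apply Finset.sum_congr rfl
  intro j _
  have := sg_mul_self F (ε j)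
  calc sg F (ε j) * x j * (sg F (ε j) * x j) = (sg F (ε j) * sg F (ε j)) * (x j * x j) := by ring
    _ = x j * x j := by rw [this, one_mul]

/-- **the sign-diagonal isometries** `dg ε : e_j ↦ ε_j e_j` -/
def dg : (J → ℤˣ) →* Od F := (dgGL F).codRestrict _ (dgGL_mem F)

theorem dg_val (ε : J → ℤˣ) : (((dg F ε : Od F) : GL J F) : Matrix J J F) = dgM F ε := rfl

theorem dg_mulVec (ε : J → ℤˣ) (x : J → F) :
    (((dg F ε : Od F) : GL J F) : Matrix J J F) *ᵥ x = fun j => sg F (ε j) * x j := by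
  rw [dg_val, dgM_mulVec]

/-- the permutation matrices `e_j ↦ e_{π j}`, in `GL` -/
def pmGL : Equiv.Perm J →* GL J F := (Matrix.permMatrixHom (n := J) (R := F)).toHomUnits

theorem pmGL_val (π : Equiv.Perm J) :
    ((pmGL F π : GL J F) : Matrix J J F) = (π⁻¹).permMatrix F := rfl

theorem pmGL_mulVec (π : Equiv.Perm J) (x : J → F) :
    ((pmGL F π : GL J F) : Matrix J J F) *ᵥ x = fun j => x (π⁻¹ j) := by
  rw [pmGL_val, Matrix.permMatrix_mulVec]
  rfl

theorem pmGL_mem (π : Equiv.Perm J) : pmGL F π ∈ Cfsg.isometryGroup F ⇑(Qd F) := by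
  rw [mem_isometryGroup_iff]
  intro x
  rw [pmGL_mulVec, Qd_apply, Qd_apply]
  congr 1
  exact Equiv.sum_comp (π⁻¹) (fun j => x j * x j)

/-- **the permutation isometries** `pm π : e_j ↦ e_{π j}` -/
def pm : Equiv.Perm J →* Od F := (pmGL F).codRestrict _ (pmGL_mem F)

theorem pm_val (π : Equiv.Perm J) :
    (((pm F π : Od F) : GL J F) : Matrix J J F) = (π⁻¹).permMatrix F := rfl

theorem pm_mulVec (π : Equiv.Perm J) (x : J → F) :
    (((pm F π : Od F) : GL J F) : Matrix J J F) *ᵥ x = fun j => x (π⁻¹ j) :=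
  pmGL_mulVec F π x

end defs

/-- the sign vectors of product one (`≅ 2^6`) -/
def Ev : Subgroup (J → ℤˣ) where
  carrier := {ε | ∏ j, ε j = 1}
  one_mem' := by simp
  mul_mem' := by
    intro a b ha hb
    simp only [Set.mem_ofPred_eq, Pi.mul_apply, Finset.prod_mul_distrib] at ha hb ⊢
    rw [ha, hb, one_mul]
  inv_mem' := by
    intro a ha
    simp only [Set.mem_ofPred_eq, Pi.inv_apply, Finset.prod_inv_distrib] at ha ⊢
    rw [ha, inv_one]

theorem mem_Ev (ε : J → ℤˣ) : ε ∈ Ev ↔ ∏ j, ε j = 1 := Iff.rfl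

/-- the seven points -/
abbrev p0 : J := Sum.inr (Sum.inl 0)
abbrev p1 : J := Sum.inr (Sum.inl 1)
abbrev p2 : J := Sum.inr (Sum.inl 2)
abbrev p3 : J := Sum.inr (Sum.inr 0)
abbrev p4 : J := Sum.inr (Sum.inr 1)
abbrev p5 : J := Sum.inr (Sum.inr 2)
abbrev p6 : J := Sum.inl ()

/-- the rotation `(p0 p1 p2 p3)(p4 p5)` -/
def rD : Equiv.Perm J := Equiv.swap p0 p1 * Equiv.swap p1 p2 * Equiv.swap p2 p3 * Equiv.swap p4 p5

/-- the reflection `(p0 p2)(p4 p5)` -/
def sD : Equiv.Perm J := Equiv.swap p0 p2 * Equiv.swap p4 p5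

/-- the eight elements of the dihedral group `D8 ≤ A7` -/
def Dl : List (Equiv.Perm J) :=
  [1, rD, rD ^ 2, rD ^ 3, sD, rD * sD, rD ^ 2 * sD, rD ^ 3 * sD]

theorem Dl_mul : ∀ a ∈ Dl, ∀ b ∈ Dl, a * b ∈ Dl := by decide

theorem Dl_inv : ∀ a ∈ Dl, a⁻¹ ∈ Dl := by decide

theorem Dl_nodup : Dl.Nodup := by decide

/-- the dihedral group `D8 ≤ A7` (a Sylow `2`-subgroup of `A7`) -/
def Dp : Subgroup (Equiv.Perm J) where
  carrier := {π | π ∈ Dl}
  one_mem' := by
    show (1 : Equiv.Perm J) ∈ Dl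
    simp [Dl]
  mul_mem' := by
    intro a b ha hb
    exact Dl_mul a ha b hb
  inv_mem' := by
    intro a ha
    exact Dl_inv a ha

theorem mem_Dp (π : Equiv.Perm J) : π ∈ Dp ↔ π ∈ Dl := Iff.rfl

instance (π : Equiv.Perm J) : Decidable (π ∈ Dp) := by
  rw [mem_Dp]
  infer_instance

section groups

variable (F : Type*) [Field F]

/-- `E0 = {dg ε | ∏ ε = 1} ≅ 2^6` -/
def E0 : Subgroup (Od F) := Ev.map (dg F)

/-- `S0 = E0 ⋊ D8`, of order `2^9` -/
def S0 : Subgroup (Od F) := E0 F ⊔ Dp.map (pm F)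

/-- `H0 = E0 ⋊ A7` -/
def H0 : Subgroup (Od F) := E0 F ⊔ (alternatingGroup J).map (pm F)

end groups

end

end Cfsg.Agent.S2647P
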