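import Mathlib
import Cfsg.Agent.Helper7.S2647.Defs
import Cfsg.Agent.Helper7.S2647CONJ
import Cfsg.Agent.Helper7.S2647INJ
import Cfsg.Agent.Helper24.S2647NF
import Cfsg.Agent.Helper24.S2647PGRP
import Cfsg.Agent.Helper22.S2647REFL
import Cfsg.Agent.Helper16.S2647OMIN
import Cfsg.Agent.Helper16.S2647OMOUT
import Cfsg.Agent.Helper7.S2647MONO
import Cfsg.Agent.Helper10.S2647COMB
import Cfsg.Agent.Helper10.S2647WC
import Cfsg.Agent.Helper6.S2647NA7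
import Cfsg.Agent.Helper7.S2647DINV
import Cfsg.Agent.Helper25.S2647ZS0
import Cfsg.Agent.Helper11.S2647EGEN
import Cfsg.Agent.Helper7.S2647HAD
import Cfsg.Agent.Helper22.S2647ISOM
import Cfsg.Agent.Helper11.S2647ARITH
import Cfsg.Agent.Helper21.S2647FUSA
import Cfsg.Agent.Helper21.S2647FUSB
import Cfsg.Agent.Helper21.S2647TRANS

set_option autoImplicit false
set_option linter.unusedSectionVars false
set_option linter.unusedVariables false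

/-! # S2647: assemblies NS0, SC0 -/

namespace Cfsg.Agent.S2647P

open Matrix Cfsg.Agent.Helper28.IsoTransport Cfsg.Agent.Helper28.Spin

variable {F : Type*} [Field F]

namespace MAIN

theorem E0_le_S0 : E0 F ≤ S0 F := le_sup_left

theorem pmD_le_S0 : Dp.map (pm F) ≤ S0 F := le_sup_right

theorem perm_mem_Ev (ε : J → ℤˣ) (hε : ε ∈ Ev) (π : Equiv.Perm J) :
    (fun j => ε (π⁻¹ j)) ∈ Ev := by
  rw [mem_Ev] at hε ⊢
  rw [← hε]
  exact Equiv.prod_comp (π⁻¹) ε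

theorem S0_le_Omd [Fintype F] (h2 : (2 : F) ≠ 0) : S0 F ≤ Omd F := by
  intro g hg
  rw [mem_S0_iff] at hg
  obtain ⟨ε, hε, σ, hσ, rfl⟩ := hg
  exact (Omd F).mul_mem (dg_mem_Omd h2 ε hε) (pm_mem_Omd h2 σ (Dp_le_alternating hσ))

theorem dg_mem_E0 (ε : J → ℤˣ) (hε : ε ∈ Ev) : dg F ε ∈ E0 F := (mem_E0_iff _).2 ⟨ε, hε, rfl⟩

/-- conjugation of `pm σ` by a monomial element -/
theorem conj_pm (ε : J → ℤˣ) (π σ : Equiv.Perm J) :
    ∃ ε' : J → ℤˣ, (dg F ε * pm F π) * pm F σ * (dg F ε * pm F π)⁻¹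
      = dg F ε' * pm F (π * σ * π⁻¹) := by
  have h1 : pm F σ = dg F 1 * pm F σ := by rw [map_one, one_mul]
  rw [h1, dg_pm_mul, dg_pm_inv, dg_pm_mul]
  exact ⟨_, rfl⟩

/-- **NS0**: `S0` is self-normalising in `Ω(Qd)` -/
theorem normalizer_S0 [Fintype F] (h2 : (2 : F) ≠ 0) (h2ns : ¬ IsSquare (2 : F)) (g : Od F)
    (hg : g ∈ Omd F) (hn : ∀ s ∈ S0 F, g * s * g⁻¹ ∈ S0 F) : g ∈ S0 F := by
  classical
  have : Finite (Od F) := inferInstance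
  have hnorm : g ∈ Subgroup.normalizer ((S0 F : Subgroup (Od F)) : Set (Od F)) :=
    Subgroup.mem_normalizer_fintype hn
  have hn' : ∀ s ∈ S0 F, g⁻¹ * s * g ∈ S0 F := by
    intro s hs
    have h3 := (Subgroup.mem_normalizer_iff'.mp hnorm) (g⁻¹ * s)
    have h4 : g⁻¹ * s * g ∈ S0 F ↔ g * (g⁻¹ * s) ∈ S0 F := h3
    rw [h4]
    have : g * (g⁻¹ * s) = s := by group
    rw [this]
    exact hs
  have hw1 : ∀ ε ∈ Ev, g * dg F ε * g⁻¹ ∈ E0 F :=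
    weakly_closed h2 g (fun ε hε => hn _ (E0_le_S0 (dg_mem_E0 ε hε)))
  have hw2 : ∀ ε ∈ Ev, g⁻¹ * dg F ε * g ∈ E0 F := by
    have := weakly_closed h2 g⁻¹ (fun ε hε => by
      rw [inv_inv]
      exact hn' _ (E0_le_S0 (dg_mem_E0 ε hε)))
    intro ε hε
    have h5 := this ε hε
    rwa [inv_inv] at h5
  obtain ⟨ε, π, rfl⟩ := monomial_of_normalizes h2 g hw1 hw2
  obtain ⟨hε, hπ⟩ := mem_Omd_of_dg_pm h2 h2ns ε π hg
  have hπD : π ∈ Dp := by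
    apply normalizer_Dp π hπ
    intro σ hσ
    obtain ⟨ε', h6⟩ := conj_pm (F := F) ε π σ
    have h7 : (dg F ε * pm F π) * pm F σ * (dg F ε * pm F π)⁻¹ ∈ S0 F :=
      hn _ (pmD_le_S0 ⟨σ, hσ, rfl⟩)
    rw [h6, mem_S0_iff] at h7
    obtain ⟨ε'', -, σ', hσ', h8⟩ := h7
    obtain ⟨-, h9⟩ := dg_pm_inj h2 _ _ _ _ h8
    rw [h9]
    exact hσ'
  exact (mem_S0_iff _).2 ⟨ε, hε, π, hπD, rfl⟩

/-- **SC0**: a subgroup of `S0` strongly closed with respect to `Ω(Qd)` is `⊥` or `S0` -/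
theorem strongly_closed_S0 [Fintype F] (h2 : (2 : F) ≠ 0) (T : Subgroup (Od F)) (hT : T ≤ S0 F)
    (hsc : ∀ t ∈ T, ∀ g ∈ Omd F, g * t * g⁻¹ ∈ S0 F → g * t * g⁻¹ ∈ T) :
    T = ⊥ ∨ T = S0 F := by
  classical
  by_cases hT1 : T = ⊥
  · exact Or.inl hT1
  right
  have hSO := S0_le_Omd (F := F) h2
  have hnS : ∀ s ∈ S0 F, ∀ t ∈ T, s * t * s⁻¹ ∈ T := by
    intro s hs t ht
    exact hsc t ht s (hSO hs) ((S0 F).mul_mem ((S0 F).mul_mem hs (hT ht)) ((S0 F).inv_mem hs))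
  obtain ⟨ε₀, hε₀, hε₀1, hε₀T⟩ := exists_dg_mem_of_normal h2 T hT hT1 hnS
  -- `E0 ≤ T`
  have hE : Ev ≤ (T.comap (dg F)) ⊓ Ev := by
    apply Ev_le_of_perm_closed ((T.comap (dg F)) ⊓ Ev) ε₀ hε₀ hε₀1 ⟨hε₀T, hε₀⟩
    rintro ε ⟨hεT, hεE⟩ π hπ
    refine ⟨?_, perm_mem_Ev ε hεE π⟩
    show dg F (fun j => ε (π⁻¹ j)) ∈ T
    rw [← pm_dg_conj]
    apply hsc _ hεT _ (pm_mem_Omd h2 π hπ)
    rw [pm_dg_conj]
    exact E0_le_S0 (dg_mem_E0 _ (perm_mem_Ev ε hεE π))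
  have hE0T : E0 F ≤ T := by
    intro x hx
    rw [mem_E0_iff] at hx
    obtain ⟨ε, hε, rfl⟩ := hx
    exact (hE hε).1
  -- involutions of `pm D8`
  have hinv : ∀ σ ∈ Dp, σ * σ = 1 → pm F σ ∈ T := by
    intro σ hσ hσ2
    by_cases hσ1 : σ = 1
    · rw [hσ1, map_one]; exact T.one_mem
    obtain ⟨i, j, k, l, hij, hik, hil, hjk, hjl, hkl, rfl⟩ := Dp_involution_form σ hσ hσ1 hσ2
    obtain ⟨g, hg, ε, hε, hgε⟩ := exists_conj_swap_swap (F := F) h2 i j k l hij hik hil hjk hjl hkl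
    have h3 : pm F (Equiv.swap i j * Equiv.swap k l) = g⁻¹ * dg F ε * (g⁻¹)⁻¹ := by
      rw [← hgε]; group
    rw [h3]
    apply hsc _ (hE0T (dg_mem_E0 ε hε)) _ ((Omd F).inv_mem hg)
    rw [← h3]
    exact pmD_le_S0 ⟨_, hσ, rfl⟩
  have hD : Dp.map (pm F) ≤ T := by
    rw [Subgroup.map_le_iff_le_comap]
    refine Dp_le_closure_involutions.trans ?_
    rw [Subgroup.closure_le]
    rintro σ ⟨hσ, hσ2⟩
    exact hinv σ hσ hσ2
  apply le_antisymm hT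
  exact sup_le hE0T hD

end MAIN

end Cfsg.Agent.S2647P
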