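import Mathlib
import Cfsg.Agent.Helper7.S2647.Main

set_option autoImplicit false
set_option linter.unusedSectionVars false
set_option linter.unusedVariables false

/-! # S2647: final assembly -/

namespace Cfsg.Agent.S2647P

open Matrix Cfsg.Agent.Helper28.IsoTransport Cfsg.Agent.Helper28.Spin

variable {F : Type*} [Field F]

namespace MAIN

/-- the hypotheses of FUSA for `S0 ∩ Ω` inside `Ω(Qd)` -/
theorem hyps_Omd [Fintype F] (h2 : (2 : F) ≠ 0) (h2ns : ¬ IsSquare (2 : F)) :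
    ∃ S₀ : Subgroup ↥(Omd F), IsPGroup 2 ↥S₀ ∧ S₀ ≠ ⊥ ∧
      (∀ g : ↥(Omd F), (∀ s ∈ S₀, g * s * g⁻¹ ∈ S₀) → g ∈ S₀) ∧
      (∀ T : Subgroup ↥(Omd F), T ≤ S₀ →
        (∀ t ∈ T, ∀ g : ↥(Omd F), g * t * g⁻¹ ∈ S₀ → g * t * g⁻¹ ∈ T) → T = ⊥ ∨ T = S₀) := by
  have hSO := S0_le_Omd (F := F) h2
  refine ⟨(S0 F).subgroupOf (Omd F), ?_, ?_, ?_, ?_⟩
  · exact (isPGroup_S0 (F := F)).of_equiv (Subgroup.subgroupOfEquivOfLe hSO).symm
  · intro h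
    rw [Subgroup.subgroupOf_eq_bot] at h
    exact S0_ne_bot h2 (h.eq_bot_of_le hSO)
  · intro g hg
    rw [Subgroup.mem_subgroupOf]
    apply normalizer_S0 h2 h2ns g.1 g.2
    intro s hs
    have := hg ⟨s, hSO hs⟩ (by rw [Subgroup.mem_subgroupOf]; exact hs)
    rw [Subgroup.mem_subgroupOf] at this
    exact this
  · intro T hT hsc
    have h3 := strongly_closed_S0 h2 (T.map (Omd F).subtype) (by
      rintro x ⟨t, ht, rfl⟩
      have := hT ht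
      rw [Subgroup.mem_subgroupOf] at this
      exact this) (by
      rintro x ⟨t, ht, rfl⟩ g hg hgS
      have := hsc t ht ⟨g, hg⟩ (by rw [Subgroup.mem_subgroupOf]; exact hgS)
      exact ⟨_, this, rfl⟩)
    rcases h3 with h3 | h3
    · left
      rw [eq_bot_iff]
      intro t ht
      have h4 : ((Omd F).subtype t) ∈ T.map (Omd F).subtype := ⟨t, ht, rfl⟩
      rw [h3, Subgroup.mem_bot] at h4
      rw [Subgroup.mem_bot]
      exact Subtype.ext h4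
    · right
      apply le_antisymm hT
      intro s hs
      rw [Subgroup.mem_subgroupOf] at hs
      rw [← h3] at hs
      obtain ⟨t, ht, hts⟩ := hs
      have : t = s := Subtype.ext hts
      rw [← this]
      exact ht

/-- the statement over `QfOdd` -/
theorem final_aux [Fintype F] (q : ℕ) (hF : Fintype.card F = q) (hq : q % 8 = 3 ∨ q % 8 = 5)
    (S : Sylow 2 ↥(Cfsg.Omega F ⇑(Cfsg.Agent.S2614.QfOdd 3 F))) :
    (Cfsg.groupFusionSystem (S : Subgroup ↥(Cfsg.Omega F ⇑(Cfsg.Agent.S2614.QfOdd 3 F)))).autGroup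
        (S : Subgroup ↥(Cfsg.Omega F ⇑(Cfsg.Agent.S2614.QfOdd 3 F))) =
      Cfsg.Inn ↥(S : Subgroup ↥(Cfsg.Omega F ⇑(Cfsg.Agent.S2614.QfOdd 3 F))) ∧
    (∀ T : Subgroup ↥(Cfsg.Omega F ⇑(Cfsg.Agent.S2614.QfOdd 3 F)),
      (Cfsg.groupFusionSystem
        (S : Subgroup ↥(Cfsg.Omega F ⇑(Cfsg.Agent.S2614.QfOdd 3 F)))).StronglyClosed T →
      T = ⊥ ∨ T = (S : Subgroup ↥(Cfsg.Omega F ⇑(Cfsg.Agent.S2614.QfOdd 3 F)))) ∧
    (Cfsg.groupFusionSystem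
      (S : Subgroup ↥(Cfsg.Omega F ⇑(Cfsg.Agent.S2614.QfOdd 3 F)))).IsSimple 2 := by
  classical
  obtain ⟨h2, h2ns⟩ := two_ne_zero_and_not_isSquare (F := F) q hF hq
  obtain ⟨T, hT⟩ := exists_isom (F := F) h2
  obtain ⟨S₀, hp, h1, hN, hSC⟩ := hyps_Omd (F := F) h2 h2ns
  obtain ⟨S₁, hp₁, h1₁, hN₁, hSC₁⟩ :=
    transport_equiv (Cfsg.Agent.Helper28.FM.isoΩ hT) S₀ hp h1 hN hSC
  obtain ⟨h1S, hNS, hSCS⟩ := transfer_to_sylow S₁ hp₁ h1₁ hN₁ hSC₁ S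
  exact fusion_of_sylow S h1S hNS hSCS

end MAIN

/-- **S2647** -/
theorem main [Fintype F] [DecidableEq F] (q : ℕ) (hF : Fintype.card F = q)
    (hq : q % 8 = 3 ∨ q % 8 = 5) (S : Sylow 2 ↥(Cfsg.Omega F (Cfsg.quadFormOdd 3 F))) :
    (Cfsg.groupFusionSystem (S : Subgroup ↥(Cfsg.Omega F (Cfsg.quadFormOdd 3 F)))).autGroup
        (S : Subgroup ↥(Cfsg.Omega F (Cfsg.quadFormOdd 3 F))) =
      Cfsg.Inn ↥(S : Subgroup ↥(Cfsg.Omega F (Cfsg.quadFormOdd 3 F))) ∧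
    (∀ T : Subgroup ↥(Cfsg.Omega F (Cfsg.quadFormOdd 3 F)),
      (Cfsg.groupFusionSystem
        (S : Subgroup ↥(Cfsg.Omega F (Cfsg.quadFormOdd 3 F)))).StronglyClosed T →
      T = ⊥ ∨ T = (S : Subgroup ↥(Cfsg.Omega F (Cfsg.quadFormOdd 3 F)))) ∧
    (Cfsg.groupFusionSystem
      (S : Subgroup ↥(Cfsg.Omega F (Cfsg.quadFormOdd 3 F)))).IsSimple 2 := by
  have hco := Cfsg.Agent.S2614.QfOdd_coe (F := F) 3
  revert S
  rw [← hco]
  intro S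
  exact MAIN.final_aux q hF hq S

end Cfsg.Agent.S2647P
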